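import Groth.Prelude.Def_PolLaw
import Groth.Prelude.Def_PolLaw2
import Mathlib

/-! The determinant law of a finite projective module. -/

set_option autoImplicit false
set_option linter.style.haveILetI false
set_option backward.isDefEq.respectTransparency.types false

open TensorProduct

universe u

namespace Groth.Agent.DetProj

variable {A : Type u} [CommRing A] {B : Type u} [CommRing B] [Algebra A B]
  {M : Type u} [AddCommGroup M] [Module A M] [Module B M] [IsScalarTower A B M]
  {n : ℕ} (p : (Fin n → A) →ₗ[A] M) (s : M →ₗ[A] (Fin n → A))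

/-- the extended endomorphism -/
noncomputable def extEnd (S : Type u) [CommRing S] [Algebra A S] (x : S ⊗[A] B) :
    Module.End S (S ⊗[A] (Fin n → A)) :=
  1 + (s.baseChange S) ∘ₗ (PolLaw.actEnd M S x - 1) ∘ₗ (p.baseChange S)

/-- its determinant -/
noncomputable def detExt (S : Type u) [CommRing S] [Algebra A S] (x : S ⊗[A] B) : S :=
  LinearMap.det (extEnd p s S x)

omit [Algebra A B] [IsScalarTower A B M] [Module B M] in
theorem det_natural {S S' : Type u} [CommRing S] [Algebra A S] [CommRing S'] [Algebra A S']
    (φ : S →ₐ[A] S') (T : Module.End S (S ⊗[A] (Fin n → A)))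
    (T' : Module.End S' (S' ⊗[A] (Fin n → A)))
    (h : ∀ z, φ.toLinearMap.rTensor _ (T z) = T' (φ.toLinearMap.rTensor _ z)) :
    LinearMap.det T' = φ (LinearMap.det T) := by
  classical
  let bM := Module.Free.chooseBasis A (Fin n → A)
  rw [← LinearMap.det_toMatrix (Algebra.TensorProduct.basis S' bM),
    ← LinearMap.det_toMatrix (Algebra.TensorProduct.basis S bM), AlgHom.map_det]
  congr 1
  ext i j
  simp only [AlgHom.mapMatrix_apply, Matrix.map_apply, LinearMap.toMatrix_apply,
    Algebra.TensorProduct.basis_apply]
  rw [← PolLaw.basis_repr_rTensor (Fin n → A) φ, h, LinearMap.rTensor_tmul, AlgHom.toLinearMap_apply,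
    map_one]

theorem detExt_map {S S' : Type u} [CommRing S] [Algebra A S] [CommRing S'] [Algebra A S']
    (φ : S →ₐ[A] S') (x : S ⊗[A] B) :
    detExt p s S' (Algebra.TensorProduct.map φ (AlgHom.id A B) x) = φ (detExt p s S x) := by
  have hnat : ∀ {X Y : Type u} [AddCommGroup X] [Module A X] [AddCommGroup Y] [Module A Y]
      (g : X →ₗ[A] Y) (z : S ⊗[A] X),
      φ.toLinearMap.rTensor Y (g.baseChange S z) = g.baseChange S' (φ.toLinearMap.rTensor X z) := by
    intro X Y _ _ _ _ g z
    induction z using TensorProduct.induction_on with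
    | zero => simp
    | tmul a b => simp
    | add a b ha hb => simp only [map_add, ha, hb]
  refine det_natural φ _ _ fun z => ?_
  simp only [extEnd, LinearMap.add_apply, Module.End.one_apply, LinearMap.comp_apply, LinearMap.sub_apply,
    map_add]
  rw [hnat s, map_sub, PolLaw.rTensor_actEnd M φ, hnat p]

theorem extEnd_mul (hps : p ∘ₗ s = LinearMap.id) (S : Type u) [CommRing S] [Algebra A S]
    (x y : S ⊗[A] B) : extEnd p s S (x * y) = extEnd p s S x * extEnd p s S y := by
  have h : ∀ v, p.baseChange S (s.baseChange S v) = v := fun v => by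
    rw [← LinearMap.comp_apply, ← LinearMap.baseChange_comp, hps, LinearMap.baseChange_id]; rfl
  refine LinearMap.ext fun z => ?_
  simp [extEnd, map_add, map_sub, h, Module.End.mul_apply]
  abel

theorem detExt_mul (hps : p ∘ₗ s = LinearMap.id) (S : Type u) [CommRing S] [Algebra A S]
    (x y : S ⊗[A] B) : detExt p s S (x * y) = detExt p s S x * detExt p s S y := by
  rw [detExt, extEnd_mul p s hps, map_mul]; rfl

theorem detExt_one (S : Type u) [CommRing S] [Algebra A S] :
    detExt p s S (1 : S ⊗[A] B) = 1 := by
  have h : extEnd p s S (1 : S ⊗[A] B) = 1 := LinearMap.ext fun z => by simp [extEnd]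
  rw [detExt, h, map_one]

theorem detExt_eq_detAct (hps : p ∘ₗ s = LinearMap.id) [Module.Finite A M] [Module.Projective A M]
    (S : Type u) [CommRing S] [IsLocalRing S] [Algebra A S]
    (x : S ⊗[A] B) : detExt p s S x = PolLaw.detAct M S x := by
  classical
  haveI : Module.Free S (S ⊗[A] M) := Module.free_of_flat_of_isLocalRing
  let b := Module.Free.chooseBasis S (S ⊗[A] M)
  let c := Module.Free.chooseBasis S (S ⊗[A] (Fin n → A))
  have h : p.baseChange S ∘ₗ s.baseChange S = LinearMap.id := by
    rw [← LinearMap.baseChange_comp, hps, LinearMap.baseChange_id]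
  unfold detExt PolLaw.detAct
  rw [← LinearMap.det_toMatrix c, ← LinearMap.det_toMatrix b, extEnd, map_add,
    LinearMap.toMatrix_one, LinearMap.toMatrix_comp c b c, LinearMap.toMatrix_comp c b b]
  rw [Matrix.det_one_add_mul_comm, Matrix.mul_assoc, ← LinearMap.toMatrix_comp b c b, h,
    LinearMap.toMatrix_id, Matrix.mul_one]
  congr 1
  rw [show (PolLaw.actEnd M S x - 1 : Module.End S (S ⊗[A] M)) =
      (PolLaw.actEnd M S x : (S ⊗[A] M) →ₗ[S] (S ⊗[A] M)) - LinearMap.id from rfl]
  refine (congrArg (1 + ·) (map_sub (LinearMap.toMatrix b b) _ _)).trans ?_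
  rw [LinearMap.toMatrix_id]
  abel

theorem eq_of_local {S : Type u} [CommRing S] [Algebra A S] (a b : S)
    (h : ∀ (m : Ideal S) [m.IsMaximal],
      algebraMap S (Localization.AtPrime m) a = algebraMap S (Localization.AtPrime m) b) : a = b :=
  Module.eq_of_localization_maximal (fun m _ => Localization.AtPrime m)
    (fun m _ => Algebra.linearMap S (Localization.AtPrime m)) a b h

theorem detExt_smul (hps : p ∘ₗ s = LinearMap.id) [Module.Finite A M] [Module.Projective A M] (d : ℕ)
    (hd : ∀ q : PrimeSpectrum A, Module.rankAtStalk M q = d)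
    (S : Type u) [CommRing S] [Algebra A S] (c : S) (x : S ⊗[A] B) :
    detExt p s S (c • x) = c ^ d * detExt p s S x := by
  refine eq_of_local (A := A) _ _ fun m _ => ?_
  let φ : S →ₐ[A] Localization.AtPrime m := IsScalarTower.toAlgHom A S (Localization.AtPrime m)
  show φ _ = φ _
  rw [map_mul, map_pow, ← detExt_map p s φ, ← detExt_map p s φ, detExt_eq_detAct p s hps,
    detExt_eq_detAct p s hps]
  have e : Algebra.TensorProduct.map φ (AlgHom.id A B) (c • x) =
      φ c • Algebra.TensorProduct.map φ (AlgHom.id A B) x := by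
    induction x using TensorProduct.induction_on with
    | zero => simp
    | tmul t v =>
      rw [TensorProduct.smul_tmul', smul_eq_mul, Algebra.TensorProduct.map_tmul,
        Algebra.TensorProduct.map_tmul, map_mul, TensorProduct.smul_tmul', smul_eq_mul]
    | add u v hu hv => simp only [smul_add, map_add, hu, hv]
  rw [e]
  haveI : Module.Free (Localization.AtPrime m) (Localization.AtPrime m ⊗[A] M) :=
    Module.free_of_flat_of_isLocalRing
  unfold PolLaw.detAct
  rw [map_smul, LinearMap.det_smul]
  congr 2
  have := congrFun (Module.rankAtStalk_eq_finrank_of_free (R := Localization.AtPrime m)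
    (M := Localization.AtPrime m ⊗[A] M)) (IsLocalRing.closedPoint _)
  rw [Module.rankAtStalk_baseChange, hd] at this
  exact this.symm

/-- the value on an arbitrary test algebra -/
noncomputable def lawFun (S : Type u) [CommSemiring S] [Algebra A S] (x : S ⊗[A] B) : S ⊗[A] A :=
  (Algebra.TensorProduct.lid A S (detExt p s (A ⊗[A] S) (PolLaw.toRing A B S x))) ⊗ₜ[A] (1 : A)

theorem lawFun_compat {S S' : Type u} [CommSemiring S] [Algebra A S] [CommSemiring S'] [Algebra A S']
    (φ : S →ₐ[A] S') (x : S ⊗[A] B) :
    φ.toLinearMap.rTensor A (lawFun p s S x) = lawFun p s S' (φ.toLinearMap.rTensor B x) := by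
  let ψ : A ⊗[A] S →ₐ[A] A ⊗[A] S' := Algebra.TensorProduct.map (AlgHom.id A A) φ
  have hψ : Algebra.TensorProduct.map ψ (AlgHom.id A B) (PolLaw.toRing A B S x) =
      PolLaw.toRing A B S' (φ.toLinearMap.rTensor B x) := by
    induction x using TensorProduct.induction_on with
    | zero => simp
    | tmul s b => simp [ψ, Algebra.TensorProduct.map_tmul, Algebra.TensorProduct.lid_symm_apply,
        LinearMap.rTensor_tmul]
    | add x y hx hy => simp only [map_add, hx, hy]
  have hlid : ∀ r : A ⊗[A] S,
      Algebra.TensorProduct.lid A S' (ψ r) = φ (Algebra.TensorProduct.lid A S r) := by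
    intro r
    induction r using TensorProduct.induction_on with
    | zero => simp
    | tmul a s => simp [ψ, Algebra.TensorProduct.map_tmul, Algebra.TensorProduct.lid_tmul]
    | add x y hx hy => simp only [map_add, hx, hy]
  unfold lawFun
  rw [LinearMap.rTensor_tmul, ← hψ, detExt_map p s ψ, AlgHom.toLinearMap_apply, hlid]

/-- the determinant law -/
noncomputable def law : B →ₚₗ[A] A where
  toFun' S _ _ := lawFun p s S
  isCompat' φ := funext (lawFun_compat p s φ)

theorem law_isMult (hps : p ∘ₗ s = LinearMap.id) : PolLaw.IsMult (law (B := B) p s) := by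
  intro S _ _
  refine ⟨?_, fun x y => ?_⟩
  · show lawFun p s S 1 = 1
    have h : PolLaw.toRing A B S 1 = 1 := by
      simp [Algebra.TensorProduct.one_def, Algebra.TensorProduct.map_tmul,
        Algebra.TensorProduct.lid_symm_apply]
    rw [lawFun, h, detExt_one]
    simp [Algebra.TensorProduct.one_def]
  · show lawFun p s S (x * y) = lawFun p s S x * lawFun p s S y
    simp [lawFun, detExt_mul p s hps, Algebra.TensorProduct.tmul_mul_tmul]

theorem law_isHomog (hps : p ∘ₗ s = LinearMap.id) [Module.Finite A M] [Module.Projective A M] (d : ℕ)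
    (hd : ∀ q : PrimeSpectrum A, Module.rankAtStalk M q = d) :
    PolLaw.IsHomog (law (B := B) p s) d := by
  intro S _ _ c x
  show lawFun p s S (c • x) = c ^ d • lawFun p s S x
  have h : PolLaw.toRing A B S (c • x) = ((1 : A) ⊗ₜ[A] c) • PolLaw.toRing A B S x := by
    induction x using TensorProduct.induction_on with
    | zero => simp
    | tmul t v => simp [TensorProduct.smul_tmul', Algebra.TensorProduct.lid_symm_apply,
        Algebra.TensorProduct.tmul_mul_tmul]
    | add u v hu hv => simp only [smul_add, map_add, hu, hv]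
  rw [lawFun, h, detExt_smul p s hps d hd, map_mul, map_pow, Algebra.TensorProduct.lid_tmul, one_smul,
    lawFun, TensorProduct.smul_tmul', smul_eq_mul]

theorem law_ring (S : Type u) [CommRing S] [Algebra A S] (x : S ⊗[A] B) :
    (law p s).toFun' S x = detExt p s S x ⊗ₜ[A] (1 : A) := by
  show lawFun p s S x = _
  have h1 : Algebra.TensorProduct.map (Algebra.TensorProduct.lid A S).toAlgHom (AlgHom.id A B)
      (PolLaw.toRing A B S x) = x := by
    induction x using TensorProduct.induction_on with
    | zero => simp
    | tmul s b => simp [Algebra.TensorProduct.map_tmul, Algebra.TensorProduct.lid_symm_apply]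
    | add x y hx hy => simp only [map_add, hx, hy]
  unfold lawFun
  conv_rhs => rw [← h1, detExt_map p s (Algebra.TensorProduct.lid A S).toAlgHom]
  rfl

/-- two laws with equal values on local test algebras are equal -/
theorem law_ext (F G : B →ₚₗ[A] A)
    (h : ∀ (S : Type u) [CommRing S] [IsLocalRing S] [Algebra A S] (x : S ⊗[A] B),
      F.toFun' S x = G.toFun' S x) : F = G := by
  have ring : ∀ (S : Type u) [CommRing S] [Algebra A S] (x : S ⊗[A] B),
      F.toFun' S x = G.toFun' S x := by
    intro S _ _ x
    apply (Algebra.TensorProduct.rid A A S).injective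
    refine eq_of_local (A := A) _ _ fun m _ => ?_
    let φ : S →ₐ[A] Localization.AtPrime m := IsScalarTower.toAlgHom A S (Localization.AtPrime m)
    have hr : ∀ z : S ⊗[A] A, φ (Algebra.TensorProduct.rid A A S z) =
        Algebra.TensorProduct.rid A A (Localization.AtPrime m) (φ.toLinearMap.rTensor A z) := by
      intro z
      induction z using TensorProduct.induction_on with
      | zero => simp
      | tmul t a => simp [Algebra.TensorProduct.rid_tmul]
      | add u v hu hv => simp only [map_add, hu, hv]
    show φ _ = φ _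
    rw [hr, hr]
    have eF := congrFun (F.isCompat' φ) x
    have eG := congrFun (G.isCompat' φ) x
    simp only [Function.comp_apply] at eF eG
    rw [eF, eG, h]
  ext S _ _ x
  let e : S →ₐ[A] A ⊗[A] S := (Algebra.TensorProduct.lid A S).symm.toAlgHom
  let e' : A ⊗[A] S →ₐ[A] S := (Algebra.TensorProduct.lid A S).toAlgHom
  have hx : e'.toLinearMap.rTensor B (e.toLinearMap.rTensor B x) = x := by
    induction x using TensorProduct.induction_on with
    | zero => simp
    | tmul t a => simp [e, e', Algebra.TensorProduct.lid_symm_apply]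
    | add u v hu hv => simp only [map_add, hu, hv]
  rw [← hx]
  have eF := congrFun (F.isCompat' e') (e.toLinearMap.rTensor B x)
  have eG := congrFun (G.isCompat' e') (e.toLinearMap.rTensor B x)
  simp only [Function.comp_apply] at eF eG
  rw [← eF, ← eG, ring]

end Groth.Agent.DetProj
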